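import Groth.Agent.ClosedPush.Full
import Groth.Agent.AmpleVan.ThickPush
import Groth.Agent.SheafHomX.Basic
import Groth.Agent.KFlatLib.Scheme.ProjModule
import Groth.Agent.KFlatLib.Scheme.TensorAssoc
import Groth.Agent.KFlatLib.Perfect.LocFree
import Groth.Agent.SiteBase.ModGroth
import Groth.Agent.SiteBase.DerivedComp
import Groth.Agent.H9Misc.SupportsSS
import Groth.Agent.S3630
import Groth.Prelude.Def_ModSite

/-!
# Change of rings for internal and global Hom along a closed immersion
-/

set_option autoImplicit false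
set_option linter.style.haveILetI false
set_option backward.isDefEq.respectTransparency false
set_option backward.isDefEq.respectTransparency.types false

universe u

open CategoryTheory CategoryTheory.Limits AlgebraicGeometry
open Groth.Agent Groth.Agent.SpObjSS Groth.Agent.TriCat Groth.Agent.SiteBase

noncomputable section

namespace Groth.Agent.ChangeRings

variable {X P : Scheme.{u}} (ι : X ⟶ P) [IsClosedImmersion ι]

/-- The right adjoint of `ι_*`. -/
def rAdjFun : P.Modules ⥤ X.Modules :=
  haveI : (Scheme.Modules.pushforward ι).IsLeftAdjoint := S3630.result X P ι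
  (Scheme.Modules.pushforward ι).rightAdjoint

/-- The adjunction. -/
def rAdj : Scheme.Modules.pushforward ι ⊣ rAdjFun ι :=
  haveI : (Scheme.Modules.pushforward ι).IsLeftAdjoint := S3630.result X P ι
  Adjunction.ofIsLeftAdjoint _

variable (E F : X.Modules)

/-- `N ↦ ι_*(N ⊗ E)`. -/
abbrev lFun : X.Modules ⥤ P.Modules :=
  SheafHomX.ten E ⋙ Scheme.Modules.pushforward ι

/-- Its right adjoint, `G ↦ Hom(E, ι^! G)`. -/
abbrev tFun : P.Modules ⥤ X.Modules :=
  rAdjFun ι ⋙ SheafHomX.hom E

/-- The adjunction. -/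
def tAdj : lFun ι E ⊣ tFun ι E :=
  (SheafHomX.adj E).comp (rAdj ι)

instance additive_tFun : (tFun ι E).Additive :=
  (tAdj ι E).right_adjoint_additive

/-- `ι_*(ι^* N ⊗ E) ≅ N ⊗ ι_* E`. -/
def leftIso : Scheme.Modules.pullback ι ⋙ lFun ι E ≅ SheafHomX.ten ((Scheme.Modules.pushforward ι).obj E) :=
  haveI : ∀ N, IsIso (KFlatLib.projMod ι E N) := fun N => KFlatLib.isIso_projMod_of_isClosedImmersion ι E N
  NatIso.ofComponents
    (fun N => (Scheme.Modules.pushforward ι).mapIso (((KFlatLib.tensorBiFlipIso X).app E).app _) ≪≫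
      (asIso (KFlatLib.projMod ι E N)).symm ≪≫
      (((KFlatLib.tensorBiFlipIso P).app ((Scheme.Modules.pushforward ι).obj E)).app N).symm)
    fun {N N'} g => by
      have h1 := congrArg (Scheme.Modules.pushforward ι).map
        (((KFlatLib.tensorBiFlipIso X).app E).hom.naturality ((Scheme.Modules.pullback ι).map g))
      simp only [Functor.map_comp] at h1
      have h2 := KFlatLib.projMod_naturality_right ι E g
      have h3 := ((KFlatLib.tensorBiFlipIso P).app ((Scheme.Modules.pushforward ι).obj E)).inv.naturality g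
      simp only [Iso.trans_hom, Functor.mapIso_hom, Iso.symm_hom, asIso_inv, Category.assoc,
        Functor.comp_map]
      dsimp at h1 h2 h3 ⊢
      rw [reassoc_of% h1]
      refine congrArg (_ ≫ ·) ?_
      rw [← Category.assoc]
      have h4 : (Scheme.Modules.pushforward ι).map ((DCoh.tensorBi.obj E).map ((Scheme.Modules.pullback ι).map g)) ≫
          inv (KFlatLib.projMod ι E N') =
          inv (KFlatLib.projMod ι E N) ≫ (DCoh.tensorBi.obj ((Scheme.Modules.pushforward ι).obj E)).map g := by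
        rw [IsIso.eq_inv_comp, ← Category.assoc, IsIso.comp_inv_eq]
        exact h2.symm
      rw [h4, Category.assoc, h3]

/-- `ι_* Hom(E, ι^! -) ≅ Hom(ι_* E, -)`. -/
def rightIso : tFun ι E ⋙ Scheme.Modules.pushforward ι ≅ SheafHomX.hom ((Scheme.Modules.pushforward ι).obj E) :=
  Adjunction.rightAdjointUniq
    (((Scheme.Modules.pullbackPushforwardAdjunction ι).comp (tAdj ι E)).ofNatIsoLeft (leftIso ι E))
    (SheafHomX.adj _)

/-- Comparison with the internal Hom of sheaves on sites. -/
def siteHomIso {Z : Scheme.{u}} (A : Z.Modules) [ModSite.HasSheafHom (O := Z.sheaf) A] :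
    ModSite.sheafHom (O := Z.sheaf) A ≅ SheafHomX.hom A :=
  (ModSite.sheafHomAdj (O := Z.sheaf) A).rightAdjointUniq (SheafHomX.adj A)

/-- `(M ⊗ F) ⊗ E ≅ M ⊗ (E ⊗ F)`. -/
def tenTenIso : SheafHomX.ten F ⋙ SheafHomX.ten E ≅ SheafHomX.ten (CohB1.tensorMod E F) :=
  NatIso.ofComponents (F := SheafHomX.ten F ⋙ SheafHomX.ten E)
    (G := SheafHomX.ten ((DCoh.tensorBi.obj F).obj E))
    (fun M => (((KFlatLib.tensorAssocSch X).app M).app F).app E)
    (fun {M N} g => congrArg (fun t => (NatTrans.app (NatTrans.app t F) E)) ((KFlatLib.tensorAssocSch X).hom.naturality g)) ≪≫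
  (DCoh.tensorBi (X := X)).flip.mapIso (((KFlatLib.tensorBiFlipIso X).app E).app F)

/-- `ι_*((N ⊗ F) ⊗ E) ≅ ι_*(N ⊗ (E ⊗ F))`. -/
def lTenIso : SheafHomX.ten F ⋙ lFun ι E ≅ lFun ι (CohB1.tensorMod E F) :=
  (Functor.associator _ _ _).symm ≪≫ Functor.isoWhiskerRight (tenTenIso E F) _

/-- `Hom(F, Hom(E, ι^! -)) ≅ Hom(E ⊗ F, ι^! -)`. -/
def tHomIso : tFun ι E ⋙ SheafHomX.hom F ≅ tFun ι (CohB1.tensorMod E F) :=
  Adjunction.rightAdjointUniq
    (((SheafHomX.adj F).comp (tAdj ι E)).ofNatIsoLeft (lTenIso ι E F))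
    (tAdj ι _)

/-- `Hom(F, Hom(E, ι^! -)) ≅ Hom(ι_*(E ⊗ F), -)`, global version. -/
def homTIso : tFun ι E ⋙ homFrom F ≅
    homFrom ((Scheme.Modules.pushforward ι).obj (CohB1.tensorMod E F)) :=
  SuppCore.homFromAdjIso (tAdj ι E) F ≪≫
    preadditiveCoyoneda.mapIso
      ((Scheme.Modules.pushforward ι).mapIso (((KFlatLib.tensorBiFlipIso X).app E).app F)).symm.op

/-- `G ↦ Hom(E, ι^! G)` preserves injectives when `E` is finite locally free. -/
theorem injective_tFun (hE : FlatMod.IsFinLocFree E) (Q : P.Modules) [Injective Q] :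
    Injective ((tFun ι E).obj Q) := by
  haveI : (lFun ι E).PreservesMonomorphisms := by
    refine ⟨fun {A B} f _ => ?_⟩
    have hS : (ShortComplex.mk f (cokernel.π f) (cokernel.condition f)).ShortExact :=
      { exact := ShortComplex.exact_of_g_is_cokernel _ (cokernelIsCokernel f) }
    haveI : Mono ((SheafHomX.ten E).map f) :=
      (KFlatLib.flatObj_of_isFlat (KFlatLib.isFlat_of_isFinLocFree hE) _ hS).mono_f
    exact (inferInstance : Mono ((Scheme.Modules.pushforward ι).map ((SheafHomX.ten E).map f)))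
  exact (tAdj ι E).map_injective Q inferInstance

/-- `ι_*` is exact. -/
theorem preservesFiniteColimits_push : PreservesFiniteColimits (Scheme.Modules.pushforward ι) :=
  ⟨fun J _ _ => KFlatLib.preservesColimitsOfShape_push ι J⟩

variable [EnoughInjectives P.Modules]

/-- The derived functors of `G ↦ Hom(E, ι^! G)`. -/
theorem nonempty_rightDerived_tFun [ModSite.HasSheafHom (O := P.sheaf) ((Scheme.Modules.pushforward ι).obj E)]
    [HasInjectiveResolutions (ModSite.Mod P.sheaf)]
    (G : P.Modules) (q : ℕ) (M : X.Modules)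
    (hM : Nonempty ((Scheme.Modules.pushforward ι).obj M ≅
      (ModSite.extSh (O := P.sheaf) ((Scheme.Modules.pushforward ι).obj E) q).obj G)) :
    Nonempty (((tFun ι E).rightDerived q).obj G ≅ M) := by
  haveI := preservesFiniteColimits_push ι
  haveI := ClosedPush.full_push ι
  haveI := AmpleVan.faithful_push ι
  obtain ⟨e⟩ := hM
  haveI : (ModSite.sheafHom (O := P.sheaf) ((Scheme.Modules.pushforward ι).obj E)).Additive :=
    (ModSite.sheafHomAdj (O := P.sheaf) ((Scheme.Modules.pushforward ι).obj E)).right_adjoint_additive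
  exact ⟨(Scheme.Modules.pushforward ι).preimageIso
    (((rightDerivedCompIso (tFun ι E) (Scheme.Modules.pushforward ι) q).app G).symm ≪≫
      (rightDerivedCongr (rightIso ι E ≪≫ (siteHomIso (Z := P) _).symm) q).app G ≪≫ e.symm)⟩

end Groth.Agent.ChangeRings

end
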